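import Groth.Agent.EtAssocLib.Compare
import Groth.Agent.EtMV.ZarAffine
import Groth.Agent.EtMV.Flasque

/-!
The étale sheaf of a quasi-coherent module is acyclic on affine étale schemes.
-/

universe u

open CategoryTheory CategoryTheory.Limits CategoryTheory.Abelian AlgebraicGeometry Opposite

set_option autoImplicit false
set_option backward.isDefEq.respectTransparency false
set_option backward.isDefEq.respectTransparency.types false
set_option linter.style.haveILetI false
set_option linter.auxLemma false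

noncomputable section

namespace Groth.Agent.EtAssocLib

open Groth.Agent.AdeqLib

attribute [local instance 100000] EtCoh.H._proof_1 EtMV.hext
attribute [local instance 200000] EtMV.hextAb

local notation "Kf" => Scheme.fppfPrecoverage

variable {S : Scheme.{u}}

theorem surjective_app_affine (X : ShortComplex (EtFppf.AbF S)) (hX : X.ShortExact) (h : TExact (S := S) X.X₁)
    (W : S.Etale) [IsAffine W.left] : Function.Surjective (((EtFppf.aPush S).map X.g).hom.app (op W)) := by
  intro t
  let a : Spec Γ(W.left, ⊤) ⟶ S := W.left.isoSpec.inv ≫ W.hom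
  let e : baseObj a ≅ (EtFppf.a S).obj W := Over.isoMk W.left.isoSpec.symm (by
    change W.left.isoSpec.inv ≫ W.hom =
      Spec.map (CommRingCat.ofHom (algebraMap Γ(W.left, ⊤) Γ(W.left, ⊤))) ≫ a
    exact (spec_id_comp _ a).symm)
  obtain ⟨y, hy⟩ := surjective_base_ab hX h a (X.X₃.obj.map e.hom.op t)
  refine ⟨X.X₂.obj.map e.inv.op y, ?_⟩
  change X.g.hom.app _ (X.X₂.obj.map e.inv.op y) = t
  refine (NatTrans.naturality_apply X.g.hom e.inv.op y).trans ?_
  refine (congrArg (X.X₃.obj.map e.inv.op) hy).trans ?_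
  rw [← ConcreteCategory.comp_apply, ← Functor.map_comp, ← op_comp, e.inv_hom_id, op_id, X.X₃.obj.map_id]
  rfl

theorem affAcyc_aPush_aux (n : ℕ) : ∀ (G : EtFppf.AbF S), TExact (S := S) G → ∀ (W : S.Etale), IsAffine W.left →
    Subsingleton (Ext ((EtMV.P S).obj W) ((EtFppf.aPush S).obj G) (n + 1)) := by
  induction n with
  | zero =>
    intro G hG W hW
    let C := EtMV.injSeq G
    have hC : C.ShortExact := EtMV.injSeq_shortExact G
    haveI : Injective C.X₂ := inferInstanceAs (Injective (Injective.under G))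
    haveI : (EtFppf.aPush S).IsRightAdjoint := (EtFppf.aAdj S).isRightAdjoint
    haveI : Injective ((EtFppf.aPush S).obj C.X₂) := BigSiteLib.injective_resEt Scheme.fppfPrecoverage S C.X₂
    haveI := hC.mono_f
    haveI : Epi ((EtFppf.aPush S).map C.g) := epi_aPush C hC hG
    have hS : (C.map (EtFppf.aPush S)).ShortExact := ShortComplex.ShortExact.mk'
      (ShortComplex.exact_of_f_is_kernel _ (KernelFork.mapIsLimit _ hC.fIsKernel (EtFppf.aPush S)))
      (inferInstanceAs (Mono ((EtFppf.aPush S).map C.f))) ‹_›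
    haveI : Injective (C.map (EtFppf.aPush S)).X₂ := inferInstanceAs (Injective ((EtFppf.aPush S).obj C.X₂))
    refine subsingleton_of_forall_eq 0 fun x => ?_
    obtain ⟨y, rfl⟩ := Ext.covariant_sequence_exact₁ ((EtMV.P S).obj W) hS x
      (Ext.eq_zero_of_injective _) (zero_add 1)
    obtain ⟨φ, rfl⟩ := (Ext.mk₀_bijective _ _).2 y
    obtain ⟨s, hs⟩ := surjective_app_affine C hC hG W (EtMV.σ φ)
    obtain ⟨ψ, rfl⟩ : ∃ ψ : (EtMV.P S).obj W ⟶ (EtFppf.aPush S).obj C.X₂, ψ ≫ (EtFppf.aPush S).map C.g = φ :=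
      ⟨EtMV.σ.symm s, EtMV.σ.injective (by rw [EtMV.σ_comp, Equiv.apply_symm_apply]; exact hs)⟩
    erw [← Ext.mk₀_comp_mk₀, Ext.comp_assoc_of_second_deg_zero, hS.comp_extClass, Ext.comp_zero]
  | succ n ih =>
    intro G hG W hW
    let C := EtMV.injSeq G
    have hC : C.ShortExact := EtMV.injSeq_shortExact G
    haveI : Injective C.X₂ := inferInstanceAs (Injective (Injective.under G))
    haveI : (EtFppf.aPush S).IsRightAdjoint := (EtFppf.aAdj S).isRightAdjoint
    haveI : Injective ((EtFppf.aPush S).obj C.X₂) := BigSiteLib.injective_resEt Scheme.fppfPrecoverage S C.X₂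
    haveI := hC.mono_f
    haveI : Epi ((EtFppf.aPush S).map C.g) := epi_aPush C hC hG
    have hS : (C.map (EtFppf.aPush S)).ShortExact := ShortComplex.ShortExact.mk'
      (ShortComplex.exact_of_f_is_kernel _ (KernelFork.mapIsLimit _ hC.fIsKernel (EtFppf.aPush S)))
      (inferInstanceAs (Mono ((EtFppf.aPush S).map C.f))) ‹_›
    haveI : Injective (C.map (EtFppf.aPush S)).X₂ := inferInstanceAs (Injective ((EtFppf.aPush S).obj C.X₂))
    refine subsingleton_of_forall_eq 0 fun x => ?_
    obtain ⟨y, rfl⟩ := Ext.covariant_sequence_exact₁ ((EtMV.P S).obj W) hS x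
      (Ext.eq_zero_of_injective _) (n₀ := n + 1) rfl
    have h3 : Subsingleton (Ext ((EtMV.P S).obj W) ((EtFppf.aPush S).obj C.X₃) (n + 1)) :=
      ih C.X₃ (texact_quotient hC hG (texact_injective _)) W hW
    rw [show y = 0 from h3.elim _ _, Ext.zero_comp]

/-- The sheaf of a quasi-coherent module has no higher cohomology on affine étale schemes. -/
theorem subsingleton_H_isAssoc_affine (F : S.Modules) [F.IsQuasicoherent] {G : EtCoh.Ab S}
    (hG : EtAssoc.IsAssoc F G) {T : Scheme.{u}} (t : T ⟶ S) [Etale t] [IsAffine T] (q : ℕ) (hq : 1 ≤ q) :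
    Subsingleton (EtCoh.H T ((EtCoh.pull t).obj G) q) := by
  obtain ⟨i⟩ := nonempty_iso_of_isAssoc F hG
  refine (EtMV.subsingleton_H_iff_of_etale t G q).2 ?_
  obtain ⟨n, rfl⟩ : ∃ n, q = n + 1 := ⟨q - 1, by omega⟩
  haveI := affAcyc_aPush_aux n (bigQ (modQ F)) (texact_big (modQ F)) (Scheme.Etale.mk t) ‹_›
  refine subsingleton_of_forall_eq 0 fun x => ?_
  have h : x.comp (Ext.mk₀ i.hom) (add_zero (n + 1)) = 0 := Subsingleton.elim _ _
  have h2 := congrArg (fun z => Ext.comp z (Ext.mk₀ i.inv) (add_zero (n + 1))) h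
  simpa using h2

end Groth.Agent.EtAssocLib
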