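import Groth.Agent.EtAssocLib.Big
import Groth.Agent.AdeqLib.TExact

/-!
Exactness of the Amitsur complexes of the fppf sheaf of a quasi-coherent module.
-/

universe u

open CategoryTheory CategoryTheory.Limits AlgebraicGeometry TopologicalSpace Opposite TensorProduct

set_option autoImplicit false
set_option backward.isDefEq.respectTransparency false
set_option backward.isDefEq.respectTransparency.types false
set_option linter.style.haveILetI false

noncomputable section

namespace Groth.Agent.EtAssocLib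

open Groth.Agent.QC Groth.Agent.QDescent Groth.Agent.AdeqLib
open Adeq (Alg algOf specOver)

/-- Base change of scalars along isomorphisms of rings in both arguments. -/
theorem exists_tensor_transport {R D A B : Type u} [CommRing R] [CommRing D] [Algebra R D] [CommRing A] [CommRing B]
    [Algebra A B] (ρ : R ≃+* A) (σ : D ≃+* B) (h : ∀ r, σ (algebraMap R D r) = algebraMap A B (ρ r))
    (M : Type u) [AddCommGroup M] [Module R M] [Module A M] (hM : ∀ (r : R) (m : M), r • m = ρ r • m) :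
    ∃ e : D ⊗[R] M ≃+ B ⊗[A] M, ∀ d m, e (d ⊗ₜ m) = σ d ⊗ₜ m := by
  let f₀ : D →+ M →+ B ⊗[A] M :=
    { toFun := fun d => ((TensorProduct.mk A B M) (σ d)).toAddMonoidHom
      map_zero' := AddMonoidHom.ext fun m => by simp
      map_add' := fun a b => AddMonoidHom.ext fun m => by simp }
  let g₀ : B →+ M →+ D ⊗[R] M :=
    { toFun := fun b => ((TensorProduct.mk R D M) (σ.symm b)).toAddMonoidHom
      map_zero' := AddMonoidHom.ext fun m => by simp
      map_add' := fun a b => AddMonoidHom.ext fun m => by simp }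
  let f : D ⊗[R] M →+ B ⊗[A] M := TensorProduct.liftAddHom f₀ fun r d m => by
    change σ (r • d) ⊗ₜ[A] m = σ d ⊗ₜ[A] (r • m)
    rw [hM, ← TensorProduct.smul_tmul, Algebra.smul_def, map_mul, h, Algebra.smul_def]
  let g : B ⊗[A] M →+ D ⊗[R] M := TensorProduct.liftAddHom g₀ fun a b m => by
    obtain ⟨r, rfl⟩ := ρ.surjective a
    change σ.symm (ρ r • b) ⊗ₜ[R] m = σ.symm b ⊗ₜ[R] (ρ r • m)
    rw [← hM, ← TensorProduct.smul_tmul]
    congr 1
    apply σ.injective
    rw [σ.apply_symm_apply, Algebra.smul_def, Algebra.smul_def, map_mul, h, σ.apply_symm_apply]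
  have hfg : ∀ x, f (g x) = x := fun x => by
    induction x using TensorProduct.induction_on with
    | zero => simp
    | add a b ha hb => rw [map_add, map_add, ha, hb]
    | tmul b m => change σ (σ.symm b) ⊗ₜ[A] m = _; rw [σ.apply_symm_apply]
  have hgf : ∀ x, g (f x) = x := fun x => by
    induction x using TensorProduct.induction_on with
    | zero => simp
    | add a b ha hb => rw [map_add, map_add, ha, hb]
    | tmul d m => change σ.symm (σ d) ⊗ₜ[R] m = _; rw [σ.symm_apply_apply]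
  exact ⟨{ toFun := f, invFun := g, left_inv := hgf, right_inv := hfg, map_add' := map_add f }, fun d m => rfl⟩

variable {S : Scheme.{u}} (Q : StMod.QCoh (overB S)) {R : CommRingCat.{u}} (a : Spec R ⟶ S)

/-- global functions on the spectrum -/
def sec (D : Alg R) : (D : Type u) ≃+* Γ(sc (sp a D), ⊤) :=
  (Scheme.ΓSpecIso (CommRingCat.of D)).commRingCatIsoToRingEquiv.symm

theorem sec_natural {D D' : Alg R} (f : D ⟶ D') (d : D) :
    ((StMod.bmap (overB S) (spm a f)).appLE ⊤ ⊤ le_top).hom (sec a D d) = sec a D' (f.hom d) := by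
  have h := congrArg (fun k => k.hom d)
    (Scheme.ΓSpecIso_inv_naturality (R := CommRingCat.of D) (S := CommRingCat.of D') (CommRingCat.ofHom f.hom.toRingHom))
  refine Eq.trans ?_ h.symm
  exact congrArg (fun k : Γ(sc (sp a D), ⊤) ⟶ Γ(sc (sp a D'), ⊤) => k.hom (sec a D d))
    (Scheme.Hom.appLE_eq_app (f := StMod.bmap (overB S) (spm a f)) :)

/-- the sections over the affine scheme itself -/
abbrev baseMod : Type u := Γ(Q.obj.obj (sp a (algOf R R)), ⊤)

/-- the action of the ring on the sections over the affine scheme -/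
instance baseModule : Module (R : Type u) (baseMod Q a) :=
  Module.compHom (baseMod Q a) (sec a (algOf R R)).toRingHom

/-- the structure map of an algebra -/
abbrev unitHom (D : Alg R) : algOf R R ⟶ D := CommAlgCat.ofHom (Algebra.ofId R D)

theorem exists_sections (D : Alg R) : ∃ L : (D : Type u) ⊗[R] baseMod Q a ≃+ Γ(Q.obj.obj (sp a D), ⊤),
    ∀ (d : D) m, L (d ⊗ₜ m) = sec a D d • tr Q.obj (spm a (unitHom D)) ⊤ ⊤ le_top m := by
  letI : Algebra Γ(sc (sp a (algOf R R)), ⊤) Γ(sc (sp a D), ⊤) :=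
    ((StMod.bmap (overB S) (spm a (unitHom D))).appLE ⊤ ⊤ le_top).hom.toAlgebra
  haveI : IsAffine (sc (sp a (algOf R R))) := inferInstanceAs (IsAffine (Spec (CommRingCat.of (R : Type u))))
  haveI : IsAffine (sc (sp a D)) := inferInstanceAs (IsAffine (Spec (CommRingCat.of (D : Type u))))
  obtain ⟨Φ, hΦ⟩ := exists_bijective_tr Q (spm a (unitHom D)) (isAffineOpen_top _) (isAffineOpen_top _) le_top
  obtain ⟨e, he⟩ := exists_tensor_transport (sec a (algOf R R)) (sec a D)
    (fun r => (sec_natural a (unitHom D) r).symm) (baseMod Q a) (fun r m => rfl)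
  refine ⟨e.trans Φ.toAddEquiv, fun d m => ?_⟩
  change Φ (e (d ⊗ₜ m)) = _
  rw [he, show sec a D d ⊗ₜ[Γ(sc (sp a (algOf R R)), ⊤)] m =
    sec a D d • ((1 : Γ(sc (sp a D), ⊤)) ⊗ₜ[Γ(sc (sp a (algOf R R)), ⊤)] m) by
      rw [TensorProduct.smul_tmul', smul_eq_mul, mul_one]]
  exact (Φ.map_smul _ _).trans (congrArg _ (hΦ m))

/-- the sections over the spectrum of an algebra -/
def lin₀ (D : Alg R) : (D : Type u) ⊗[R] baseMod Q a ≃+ Γ(Q.obj.obj (sp a D), ⊤) :=
  (exists_sections Q a D).choose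

theorem lin₀_tmul (D : Alg R) (d : D) (m : baseMod Q a) :
    lin₀ Q a D (d ⊗ₜ m) = sec a D d • tr Q.obj (spm a (unitHom D)) ⊤ ⊤ le_top m :=
  (exists_sections Q a D).choose_spec d m

theorem unitHom_comp {D D' : Alg R} (f : D ⟶ D') : unitHom D ≫ f = unitHom D' :=
  CommAlgCat.hom_ext (Subsingleton.elim (α := (R : Type u) →ₐ[R] D') _ _)

theorem lin₀_natural_tmul {D D' : Alg R} (f : D ⟶ D') (d : D) (m : baseMod Q a) :
    tr Q.obj (spm a f) ⊤ ⊤ le_top (lin₀ Q a D (d ⊗ₜ m)) = lin₀ Q a D' (f.hom d ⊗ₜ m) := by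
  have hg : spm a f ≫ spm a (unitHom D) = spm a (unitHom D') := by rw [← spm_comp, unitHom_comp]
  exact (congrArg (tr Q.obj (spm a f) ⊤ ⊤ le_top) (lin₀_tmul Q a D d m)).trans
    ((tr_smul Q.obj (spm a f) ⊤ ⊤ le_top _ _).trans
    ((congrArg₂ (· • ·) (sec_natural a f d)
      ((tr_tr Q.obj (spm a f) (spm a (unitHom D)) ⊤ ⊤ ⊤ le_top le_top m).trans
        (tr_congr Q.obj hg ⊤ ⊤ _ le_top m))).trans (lin₀_tmul Q a D' (f.hom d) m).symm))

theorem lin₀_natural {D D' : Alg R} (f : D ⟶ D') (x : (D : Type u) ⊗[R] baseMod Q a) :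
    tr Q.obj (spm a f) ⊤ ⊤ le_top (lin₀ Q a D x) = lin₀ Q a D' (f.hom.toLinearMap.rTensor (baseMod Q a) x) := by
  let α : (D : Type u) ⊗[R] baseMod Q a →+ Γ(Q.obj.obj (sp a D'), ⊤) :=
    (tr Q.obj (spm a f) ⊤ ⊤ le_top).comp (lin₀ Q a D).toAddMonoidHom
  let β : (D : Type u) ⊗[R] baseMod Q a →+ Γ(Q.obj.obj (sp a D'), ⊤) :=
    (lin₀ Q a D').toAddMonoidHom.comp (f.hom.toLinearMap.rTensor (baseMod Q a)).toAddMonoidHom
  change α x = β x
  induction x using TensorProduct.induction_on with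
  | zero => rw [map_zero, map_zero]
  | add p q hp hq => rw [map_add, map_add, hp, hq]
  | tmul d m => exact lin₀_natural_tmul Q a f d m

/-- the trivialisation of the functor on algebras -/
def lin (D : Alg R) : (D : Type u) ⊗[R] baseMod Q a ≃+ (algF a (bigQ Q).obj).obj D :=
  (lin₀ Q a D).trans AddEquiv.ulift.symm

theorem lin_natural {D D' : Alg R} (f : D ⟶ D') (x : (D : Type u) ⊗[R] baseMod Q a) :
    (algF a (bigQ Q).obj).map f (lin Q a D x) = lin Q a D' (f.hom.toLinearMap.rTensor (baseMod Q a) x) :=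
  ULift.ext _ _ (lin₀_natural Q a f x)

theorem texact_big : TExact (S := S) (bigQ Q) := by
  intro R a B _ _ _ m z hz
  let M := baseMod Q a
  have hd : ∀ (j : ℕ) (x : (tpow (R := R) B j : Type u) ⊗[R] M),
      dA B (algF a (bigQ Q).obj) j (lin Q a _ x) = lin Q a _ (tDM B M j x) := fun j x => by
    rw [dA_apply]
    refine Eq.trans ?_ (congrArg (lin Q a _) (sum_rTensor (fun k => face (R := R) B j k) M x)).symm
    rw [map_sum]
    exact Finset.sum_congr rfl fun k _ => by rw [map_zsmul, lin_natural]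
  obtain ⟨x, rfl⟩ := (lin Q a _).surjective z
  rw [hd] at hz
  obtain ⟨y, hy⟩ := (tDM_exact M (m + 1) x).mp
    ((lin Q a (tpow (R := R) B (m + 2 + 1))).injective (hz.trans (map_zero _).symm))
  exact ⟨lin Q a _ y, (hd _ y).trans (congrArg _ hy)⟩

end Groth.Agent.EtAssocLib
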