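import Groth.Agent.EtAssocLib.Sections
import Groth.Agent.EtAssocLib.Amitsur
import Groth.Agent.BigSiteLib.AcyclicDerived
import Groth.Agent.AdeqLib.Zar

/-!
Étale cohomology of the sheaf of a quasi-coherent module is Zariski cohomology.
-/

universe u

open CategoryTheory CategoryTheory.Limits AlgebraicGeometry TopologicalSpace Opposite Abelian

set_option autoImplicit false
set_option backward.isDefEq.respectTransparency false
set_option backward.isDefEq.respectTransparency.types false
set_option linter.style.haveILetI false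

noncomputable section

namespace Groth.Agent.EtAssocLib

open Groth.Agent.AdeqLib

local notation "Kf" => Scheme.fppfPrecoverage

variable {S : Scheme.{u}}

/-- The étale `S`-scheme given by an open of an étale `S`-scheme. -/
abbrev openEt (U : S.Etale) (V : U.left.Opens) : S.Etale := Scheme.Etale.mk (V.ι ≫ U.hom)

/-- The inclusion. -/
abbrev openEtHom (U : S.Etale) (V : U.left.Opens) : openEt U V ⟶ U := MorphismProperty.Over.homMk V.ι

/-- Restriction to the small étale site is exact on sheaves with exact Amitsur complexes. -/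
theorem epi_aPush (X : ShortComplex (EtFppf.AbF S)) (hX : X.ShortExact) (h : TExact (S := S) X.X₁) :
    Epi ((EtFppf.aPush S).map X.g) := by
  haveI : Sheaf.IsLocallySurjective ((EtFppf.aPush S).map X.g) := ⟨fun {U} t => by
    have eY : S.smallEtaleTopology =
      (S.smallPretopology (P := EtCoh.etaleMP) (Q := EtCoh.etaleMP)).toGrothendieck :=
      Scheme.smallGrothendieckTopology_eq_toGrothendieck_smallPretopology S le_rfl
    refine Eq.mpr (congrArg (fun J : GrothendieckTopology S.Etale =>
      Presheaf.imageSieve ((EtFppf.aPush S).map X.g).hom t ∈ J U) eY) ?_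
    refine (Scheme.mem_toGrothendieck_smallPretopology U _).2 fun x => ?_
    obtain ⟨V, hV, hxV, -⟩ := exists_isAffineOpen_mem_and_subset (U := (⊤ : U.left.Opens)) (x := x) trivial
    haveI : IsAffine (V : Scheme.{u}) := hV
    let a : Spec Γ(V, ⊤) ⟶ S := (V : Scheme.{u}).isoSpec.inv ≫ V.ι ≫ U.hom
    let e : baseObj a ≅ (EtFppf.a S).obj (openEt U V) := Over.isoMk (V : Scheme.{u}).isoSpec.symm (by
      change (V : Scheme.{u}).isoSpec.inv ≫ (V.ι ≫ U.hom) =
        Spec.map (CommRingCat.ofHom (algebraMap Γ(V, ⊤) Γ(V, ⊤))) ≫ a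
      exact (spec_id_comp _ a).symm)
    let t' : X.X₃.obj.obj (op ((EtFppf.a S).obj (openEt U V))) :=
      X.X₃.obj.map ((EtFppf.a S).map (openEtHom U V)).op t
    obtain ⟨y, hy⟩ := surjective_base_ab hX h a (X.X₃.obj.map e.hom.op t')
    refine ⟨openEt U V, openEtHom U V, ⟨x, hxV⟩, ⟨X.X₂.obj.map e.inv.op y, ?_⟩,
      inferInstanceAs (Etale V.ι), rfl⟩
    change X.g.hom.app _ (X.X₂.obj.map e.inv.op y) = t'
    refine (NatTrans.naturality_apply X.g.hom e.inv.op y).trans ?_
    refine (congrArg (X.X₃.obj.map e.inv.op) hy).trans ?_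
    rw [← ConcreteCategory.comp_apply, ← Functor.map_comp, ← op_comp, e.inv_hom_id, op_id, X.X₃.obj.map_id]
    rfl⟩
  exact (Sheaf.isLocallySurjective_iff_epi' _ _).1 ‹_›

/-- Étale and fppf cohomology agree on sheaves with exact Amitsur complexes. -/
theorem nonempty_H_aPush {G : EtFppf.AbF S} (hG : TExact (S := S) G) (p : ℕ) :
    Nonempty (EtCoh.H S ((EtFppf.aPush S).obj G) p ≃+ EtFppf.HF S G p) := by
  haveI : (EtFppf.aPush S).IsRightAdjoint := (EtFppf.aAdj S).isRightAdjoint
  have hC : IsTerminal (EtCoh.top S) := MorphismProperty.Over.mkIdTerminal _ S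
  have hD : IsTerminal ((EtFppf.a S).obj (EtCoh.top S)) := Over.mkIdTerminal
  let eC := fun G => AddEquiv.trans ((constantSheafAdj S.smallEtaleTopology AddCommGrpCat.{u + 1} hC).homAddEquiv
    (AddCommGrpCat.of (ULift ℤ)) G) (AddCommGrpCat.uliftZMultiplesAddEquiv _)
  let eD := fun G => AddEquiv.trans ((constantSheafAdj (EtFppf.J S) AddCommGrpCat.{u + 1} hD).homAddEquiv
    (AddCommGrpCat.of (ULift ℤ)) G) (AddCommGrpCat.uliftZMultiplesAddEquiv _)
  refine BigSiteLib.nonempty_ext_equiv_of_class (EtFppf.aPush S) (fun G => TExact (S := S) G)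
    (fun X hX hI h => ⟨epi_aPush X hX h, haveI := hI; texact_quotient hX h (texact_injective _)⟩)
    (fun I hI => haveI := hI; BigSiteLib.injective_resEt Scheme.fppfPrecoverage S I) _ _
    (fun G => (eC _).trans (eD G).symm) ?_ p G hG
  intro G G' g x
  apply (eD G').injective
  have hCg : eC _ (x ≫ (EtFppf.aPush S).map g) =
      g.hom.app (op ((EtFppf.a S).obj (EtCoh.top S))) (eC _ x) := by
    simp only [eC, AddEquiv.trans_apply]; rfl
  have hDg : ∀ y : _ ⟶ G, eD G' (y ≫ g) = g.hom.app (op ((EtFppf.a S).obj (EtCoh.top S))) (eD G y) := fun y => by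
    simp only [eD, AddEquiv.trans_apply]; rfl
  exact ((eD G').apply_symm_apply _).trans (hCg.trans
    ((congrArg (g.hom.app (op ((EtFppf.a S).obj (EtCoh.top S)))) ((eD G).apply_symm_apply _)).symm.trans (hDg _).symm))

/-- Étale cohomology of the sheaf of a quasi-coherent module is Zariski cohomology. -/
theorem nonempty_H_isAssoc (F : S.Modules) [F.IsQuasicoherent] {G : EtCoh.Ab S} (hG : EtAssoc.IsAssoc F G) (q : ℕ) :
    Nonempty (EtCoh.H S G q ≃+ ULift.{u + 1} (Coh.HH S F q)) := by
  obtain ⟨i⟩ := nonempty_iso_of_isAssoc F hG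
  obtain ⟨e₁⟩ := nonempty_H_aPush (S := S) (texact_big (modQ F)) q
  obtain ⟨e₂⟩ := nonempty_zarH_equiv (S := S) (texact_big (modQ F)) q
  obtain ⟨e₃⟩ := nonempty_uuH q (Coh.toAb F)
  exact ⟨(((EtCoh.HF S q).mapIso i).addCommGroupIsoToAddEquiv.trans e₁).trans
    ((e₂.symm.trans ((Sheaf.functorH (Opens.grothendieckTopology S) q).mapIso (resZarBigIso F).symm).addCommGroupIsoToAddEquiv).trans e₃)⟩

end Groth.Agent.EtAssocLib
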