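import Groth.Agent.EtAssocLib.Sections
import Groth.Agent.PBundle.FrameTools
import Groth.Prelude.Def_EtGm

/-!
The additive group on the small étale site is the sheaf of the structure module.
-/

universe u

open CategoryTheory CategoryTheory.Limits AlgebraicGeometry TopologicalSpace Opposite

set_option autoImplicit false
set_option backward.isDefEq.respectTransparency false
set_option backward.isDefEq.respectTransparency.types false
set_option linter.style.haveILetI false

noncomputable section

namespace Groth.Agent.EtAssocLib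

open Groth.Agent.QC Groth.Agent.QDescent

variable (X : Scheme.{u})

/-- Global functions of a scheme over `X` as sections of the inverse image of the structure module. -/
def gaEquiv {T : Scheme.{u}} (t : T ⟶ X) :
    Γ((Scheme.Modules.pullback t).obj (Coh.structureModule X), ⊤) ≃+ Γ(Coh.structureModule T, ⊤) :=
  AddEquiv.ofBijective ((PicLoc.pullbackStructureIso t).hom.app ⊤).hom (ConcreteCategory.bijective_of_isIso _)

theorem gaEquiv_cmp {T' T : Scheme.{u}} {t' : T' ⟶ X} {t : T ⟶ X} (g : T' ⟶ T) (w : g ≫ t = t')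
    (e : (⊤ : T'.Opens) ≤ g ⁻¹ᵁ ⊤) (x : Γ((Scheme.Modules.pullback t).obj (Coh.structureModule X), ⊤)) :
    gaEquiv X t' (res ((Scheme.Modules.pullback t').obj (Coh.structureModule X)) e
      ((cmp (Coh.structureModule X) g w).app ⊤ x)) =
      (show Γ(Coh.structureModule T', ⊤) from (g.appLE ⊤ ⊤ e).hom (show Γ(T, ⊤) from gaEquiv X t x)) := by
  let one : ∀ {Z : Scheme.{u}} (z : Z ⟶ X), Γ((Scheme.Modules.pullback z).obj (Coh.structureModule X), ⊤) :=
    fun z => OmegaSh.pullSect z (Coh.structureModule X) ⊤ (show Γ(Coh.structureModule X, ⊤) from (1 : Γ(X, ⊤)))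
  have hone : ∀ {Z : Scheme.{u}} (z : Z ⟶ X), gaEquiv X z (one z) = (show Γ(Coh.structureModule Z, ⊤) from (1 : Γ(Z, ⊤))) :=
    fun z => (PBundle.pullbackStructureIso_pullSect z (V := ⊤) (1 : Γ(X, ⊤))).trans (z.app ⊤).hom.map_one
  have hlin : ∀ {Z : Scheme.{u}} (z : Z ⟶ X) (r : Γ(Z, ⊤)) (y : _),
      gaEquiv X z (r • y) = r • gaEquiv X z y :=
    fun z r y => Scheme.Modules.Hom.app_smul (PicLoc.pullbackStructureIso z).hom r y
  have hmul : ∀ {Z : Scheme.{u}} (r : Γ(Z, ⊤)),
      r • (show Γ(Coh.structureModule Z, ⊤) from (1 : Γ(Z, ⊤))) = (show Γ(Coh.structureModule Z, ⊤) from r) :=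
    fun r => mul_one r
  have hx : x = (show Γ(T, ⊤) from gaEquiv X t x) • one t := by
    apply (gaEquiv X t).injective
    rw [hlin, hone, hmul]
  have h1 : res ((Scheme.Modules.pullback t').obj (Coh.structureModule X)) e
      ((cmp (Coh.structureModule X) g w).app ⊤ (one t)) = one t' := by
    refine (congrArg (res ((Scheme.Modules.pullback t').obj (Coh.structureModule X)) e)
      (cmp_pullSect (Coh.structureModule X) g w ⊤ _)).trans ?_
    change ((Scheme.Modules.pullback t').obj (Coh.structureModule X)).presheaf.map (homOfLE e).op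
      (((Scheme.Modules.pullback t').obj (Coh.structureModule X)).presheaf.map _ (one t')) = one t'
    rw [← ConcreteCategory.comp_apply, ← Functor.map_comp]
    exact (congrArg (fun k => ((Scheme.Modules.pullback t').obj (Coh.structureModule X)).presheaf.map k (one t'))
      (Subsingleton.elim _ (𝟙 _))).trans (by rw [CategoryTheory.Functor.map_id]; rfl)
  conv_lhs => rw [hx]
  rw [Scheme.Modules.Hom.app_smul]
  refine (congrArg (gaEquiv X t') (res_smul _ e _ _)).trans ?_
  rw [hlin, h1, hone, hmul]
  rfl

/-- `G_a` is associated with the structure module. -/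
theorem isAssoc_Ga : EtAssoc.IsAssoc (Coh.structureModule X) (EtCoh.Ga X) :=
  ⟨fun U => AddEquiv.ulift.trans ((gaEquiv X U.hom).symm.trans AddEquiv.ulift.symm), fun U U' g s => by
    refine Eq.trans ?_ (tr_eq_resMap (Coh.structureModule X) g _)
    apply (gaEquiv X U'.hom).injective
    refine Eq.trans ?_ (gaEquiv_cmp X g.left (Over.w g.hom) le_top ((gaEquiv X U.hom).symm s.down)).symm
    refine ((gaEquiv X U'.hom).apply_symm_apply _).trans ?_
    refine Eq.trans ?_ (congrArg (fun r : Γ(U.left, ⊤) => (g.left.appLE ⊤ ⊤ le_top).hom r)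
      ((gaEquiv X U.hom).apply_symm_apply s.down).symm)
    exact (congr($(Scheme.Hom.appLE_eq_app (f := g.left) (U := ⊤)).hom s.down)).symm⟩

end Groth.Agent.EtAssocLib
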