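import Groth.Agent.QDescent.Sheaf
import Groth.Agent.QC.PullSect
import Groth.Agent.QC.Pullback
import Groth.Agent.AdeqLib.Parasitic
import Groth.Prelude.Def_EtFppf

/-!
The fppf sheaf `T ↦ Γ(T, t^* F)` of a quasi-coherent module.
-/

universe u

open CategoryTheory CategoryTheory.Limits AlgebraicGeometry TopologicalSpace Opposite

set_option autoImplicit false
set_option backward.isDefEq.respectTransparency false
set_option backward.isDefEq.respectTransparency.types false
set_option linter.style.haveILetI false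

noncomputable section

namespace Groth.Agent.EtAssocLib

open Groth.Agent.QC Groth.Agent.QDescent

variable {S : Scheme.{u}}

/-- The category of schemes over `S`, as a category over itself. -/
abbrev overB (S : Scheme.{u}) : BasedCategory.{u, u + 1} (Over S) :=
  { obj := Over S, p := 𝟭 (Over S) }

theorem isFibGrpd_overB (S : Scheme.{u}) : FibCat.IsFibGrpd (overB S).p where
  exists_lift {x V} f := ⟨V, f, IsHomLift.map (𝟭 (Over S)) f⟩
  isStronglyCartesian {y x} φ :=
    { toIsHomLift := IsHomLift.map (𝟭 (Over S)) φ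
      universal_property' := fun {a'} g φ' h => by
        haveI : (𝟭 (Over S)).IsHomLift (g ≫ φ) φ' := h
        have h' := IsHomLift.fac (𝟭 (Over S)) (g ≫ φ) φ'
        simp at h'
        exact ⟨g, ⟨IsHomLift.map (𝟭 (Over S)) g, h'⟩, fun χ hχ => by
          haveI : (𝟭 (Over S)).IsHomLift g χ := hχ.1
          have := IsHomLift.fac (𝟭 (Over S)) g χ
          simpa using this.symm⟩ }

variable (F : S.Modules)

section Cmp

variable {T' T : Scheme.{u}} {t' : T' ⟶ S} {t : T ⟶ S}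

/-- The comparison map `t^* F ⟶ g_* t'^* F`. -/
def cmp (g : T' ⟶ T) (w : g ≫ t = t') : (Scheme.Modules.pullback t).obj F ⟶
    (Scheme.Modules.pushforward g).obj ((Scheme.Modules.pullback t').obj F) :=
  (Scheme.Modules.pullbackPushforwardAdjunction g).homEquiv _ _
    (((Scheme.Modules.pullbackComp g t).app F).hom ≫ (Scheme.Modules.pullbackCongr w).hom.app F)

theorem le_preimage (g : T' ⟶ T) (w : g ≫ t = t') (W : S.Opens) : g ⁻¹ᵁ (t ⁻¹ᵁ W) = t' ⁻¹ᵁ W := by
  subst w; rfl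

/-- Pulled back sections go to pulled back sections. -/
theorem cmp_pullSect (g : T' ⟶ T) (w : g ≫ t = t') (W : S.Opens) (m : Γ(F, W)) :
    (cmp F g w).app (t ⁻¹ᵁ W) (OmegaSh.pullSect t F W m) =
      ((Scheme.Modules.pullback t').obj F).presheaf.map (eqToHom (le_preimage g w W)).op
        (OmegaSh.pullSect t' F W m) := by
  subst w
  rw [cmp, Adjunction.homEquiv_unit]
  change ((Scheme.Modules.pullbackCongr rfl).hom.app F).app _
    (((Scheme.Modules.pullbackComp g t).hom.app F).app _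
      (OmegaSh.pullSect g ((Scheme.Modules.pullback t).obj F) (t ⁻¹ᵁ W) (OmegaSh.pullSect t F W m))) = _
  rw [pullbackComp_hom_pullSect]
  simp [Scheme.Modules.pullbackCongr]

/-- Maps out of an inverse image are determined by the pulled back sections. -/
theorem hom_ext_pullSect (t : T ⟶ S) {N : T.Modules} {α β : (Scheme.Modules.pullback t).obj F ⟶ N}
    (h : ∀ (W : S.Opens) (m : Γ(F, W)),
      α.app (t ⁻¹ᵁ W) (OmegaSh.pullSect t F W m) = β.app (t ⁻¹ᵁ W) (OmegaSh.pullSect t F W m)) : α = β := by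
  apply ((Scheme.Modules.pullbackPushforwardAdjunction t).homEquiv F N).injective
  rw [Adjunction.homEquiv_unit, Adjunction.homEquiv_unit]
  refine Scheme.Modules.hom_ext _ _ fun W => ?_
  ext m
  exact h W m

/-- The comparison along an identity. -/
theorem cmp_id (t : T ⟶ S) (w : 𝟙 T ≫ t = t) :
    cmp F (𝟙 T) w ≫ (Scheme.Modules.pushforwardId T).hom.app ((Scheme.Modules.pullback t).obj F) = 𝟙 _ := by
  refine hom_ext_pullSect F _ fun W m => ?_
  rw [Scheme.Modules.Hom.comp_app, ConcreteCategory.comp_apply, cmp_pullSect]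
  exact (congrArg (fun k => ((Scheme.Modules.pullback t).obj F).presheaf.map k (OmegaSh.pullSect t F W m))
    (Subsingleton.elim (eqToHom (le_preimage (𝟙 T) w W)).op (𝟙 _))).trans
    (by rw [CategoryTheory.Functor.map_id]; rfl)

/-- The comparison along a composite. -/
theorem cmp_comp {T'' T' T : Scheme.{u}} {t'' : T'' ⟶ S} {t' : T' ⟶ S} {t : T ⟶ S} (h : T'' ⟶ T') (g : T' ⟶ T)
    (wh : h ≫ t' = t'') (wg : g ≫ t = t') (w : (h ≫ g) ≫ t = t'') :
    cmp F (h ≫ g) w = cmp F g wg ≫ (Scheme.Modules.pushforward g).map (cmp F h wh) ≫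
      (Scheme.Modules.pushforwardComp h g).hom.app ((Scheme.Modules.pullback t'').obj F) := by
  subst wh wg
  refine hom_ext_pullSect F _ fun W m => ?_
  rw [Scheme.Modules.Hom.comp_app, Scheme.Modules.Hom.comp_app, ConcreteCategory.comp_apply,
    ConcreteCategory.comp_apply, Scheme.Modules.pushforward_map_app, cmp_pullSect,
    Scheme.Modules.pushforwardComp_hom_app_app]
  change _ = (cmp F h rfl).app (g ⁻¹ᵁ (t ⁻¹ᵁ W)) ((cmp F g rfl).app (t ⁻¹ᵁ W) (OmegaSh.pullSect t F W m))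
  have hg : (cmp F g rfl).app (t ⁻¹ᵁ W) (OmegaSh.pullSect t F W m) =
      OmegaSh.pullSect (g ≫ t) F W m := (cmp_pullSect F g rfl W m).trans (by
    rw [show (eqToHom (le_preimage g rfl W)).op = 𝟙 _ from Subsingleton.elim _ _, CategoryTheory.Functor.map_id]; rfl)
  rw [hg]
  exact ((congrArg (fun k => ((Scheme.Modules.pullback (h ≫ g ≫ t)).obj F).presheaf.map k
      (OmegaSh.pullSect (h ≫ g ≫ t) F W m))
    (Subsingleton.elim (eqToHom (le_preimage (h ≫ g) w W)).op (𝟙 _))).trans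
    (by rw [CategoryTheory.Functor.map_id])).trans
    ((cmp_pullSect F h rfl W m).trans (by
    rw [show (eqToHom (le_preimage h rfl W)).op = 𝟙 _ from Subsingleton.elim _ _, CategoryTheory.Functor.map_id]; rfl)).symm

end Cmp

/-- The module `(T, t) ↦ t^* F` on schemes over `S`. -/
def modM : StMod.Mod (overB S) where
  obj T := (Scheme.Modules.pullback ((overB S).p.obj T).hom).obj F
  map {T' T} φ g hg := cmp F g (t' := ((overB S).p.obj T').hom) (t := ((overB S).p.obj T).hom)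
    (hg ▸ Over.w ((overB S).p.map φ))
  map_id T := cmp_id F _ _
  map_comp {T'' T' T} ψ φ h g hh hg := cmp_comp F h g _ _ _

variable [hF : F.IsQuasicoherent]

/-- The quasi-coherent module `(T, t) ↦ t^* F`. -/
def modQ : StMod.QCoh (overB S) :=
  ⟨modM F, by
    refine ⟨fun {T' T} φ g hg => ?_, fun T => QC.isQCoh_pullback _ hF⟩
    change IsIso (((Scheme.Modules.pullbackPushforwardAdjunction g).homEquiv _ _).symm (cmp F g _))
    rw [cmp, Equiv.symm_apply_apply]
    infer_instance⟩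

variable (Q : StMod.QCoh (overB S))

/-- The structure morphism of an object. -/
abbrev sc (T : Over S) : Scheme.{u} := StMod.sch (overB S) T

/-- The presheaf `T ↦ Γ(T, t^* F)`, valued one universe up. -/
def psh : (Over S)ᵒᵖ ⥤ AddCommGrpCat.{u + 1} where
  obj T := AddCommGrpCat.of (ULift.{u + 1} Γ(Q.obj.obj T.unop, ⊤))
  map {T T'} φ := AddCommGrpCat.ofHom
    (AddEquiv.ulift.symm.toAddMonoidHom.comp ((tr Q.obj φ.unop ⊤ ⊤ le_top).comp AddEquiv.ulift.toAddMonoidHom))
  map_id T := by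
    ext x
    change tr Q.obj (𝟙 T.unop) ⊤ ⊤ le_top x.down = x.down
    rw [tr_apply]
    have h : ∀ {g : sc T.unop ⟶ sc T.unop} (hg : StMod.bmap (overB S) (𝟙 (show (overB S).obj from T.unop)) = g),
        g = 𝟙 _ → ∀ (e : (⊤ : (sc T.unop).Opens) ≤ g ⁻¹ᵁ ⊤),
          res (Q.obj.obj T.unop) e ((Q.obj.map (𝟙 (show (overB S).obj from T.unop)) hg).app ⊤ x.down) =
            x.down := by
      rintro g hg rfl e
      exact (congrArg (res (Q.obj.obj T.unop) e) (congr($(StMod.Mod.map_id_app Q.obj T.unop ⊤) x.down))).trans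
        (res_self _ _ _)
    exact h rfl (StMod.bmap_id _) le_top
  map_comp {T T' T''} φ ψ := by
    ext x
    exact (tr_tr Q.obj ψ.unop φ.unop ⊤ ⊤ ⊤ le_top le_top x.down).symm

theorem psh_map (T' T : Over S) (φ : T' ⟶ T) (x : (psh Q).obj (op T)) :
    ((psh Q).map φ.op x).down = tr Q.obj φ ⊤ ⊤ le_top x.down := rfl

theorem coversOn_top {U : Over S} {ι : Type (u + 1)} {V : ι → Over S} {g : ∀ i, V i ⟶ U}
    (h : Presieve.ofArrows (fun i => (V i).left) (fun i => (g i).left) ∈ Scheme.fppfPrecoverage U.left) :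
    CoversOn (𝒵 := overB S) g (⊤ : (sc U).Opens) := by
  obtain ⟨hs, hp⟩ := AdeqLib.fppf_ofArrows_iff.mp h
  exact ⟨fun k => ⟨(hp k).1, (hp k).2⟩, fun x _ => hs x⟩

theorem mem_of_coversOn {U : Over S} {ι : Type (u + 1)} {V : ι → Over S} {g : ∀ i, V i ⟶ U}
    (hcov : Presieve.ofArrows (fun i => (V i).left) (fun i => (g i).left) ∈ Scheme.fppfPrecoverage U.left) :
    Sieve.generate (Presieve.ofArrows V g) ∈ EtFppf.J S U := by
  change Sieve.generate (Presieve.ofArrows V g) ∈ (Scheme.fppfPrecoverage.toGrothendieck.over S) U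
  rw [GrothendieckTopology.mem_over_iff, Sieve.overEquiv_generate]
  refine GrothendieckTopology.superset_covering _ ?_ (Precoverage.generate_mem_toGrothendieck hcov)
  rw [Sieve.generate_le_iff]
  rintro Z f ⟨i⟩
  apply Sieve.le_generate
  exact ⟨V i, g i, 𝟙 _, ⟨i⟩, (Category.id_comp _).symm⟩

theorem psh_ext {U : Over S} {R : Sieve U} (hR : R ∈ EtFppf.J S U) {s s' : (psh Q).obj (op U)}
    (h : ∀ ⦃Z : Over S⦄ (g : Z ⟶ U), R g → (psh Q).map g.op s = (psh Q).map g.op s') : s = s' := by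
  obtain ⟨ι, V, g, hcov, hVR, -⟩ := AdeqLib.exists_flat_family hR
  apply ULift.ext
  refine sect_ext Q (φ := g) (coversOn_top hcov) fun k => ?_
  exact congrArg ULift.down (h (g k) (hVR k))

theorem exists_local {U : Over S} {ι : Type (u + 1)} {V : ι → Over S} {g : ∀ i, V i ⟶ U}
    (hcov : Presieve.ofArrows (fun i => (V i).left) (fun i => (g i).left) ∈ Scheme.fppfPrecoverage U.left)
    (x : ∀ k, (psh Q).obj (op (V k)))
    (hx : ∀ (k l : ι) (Z : Over S) (a : Z ⟶ V k) (b : Z ⟶ V l), a ≫ g k = b ≫ g l →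
      (psh Q).map a.op (x k) = (psh Q).map b.op (x l)) :
    ∃ s : (psh Q).obj (op U), ∀ k, (psh Q).map (g k).op s = x k := by
  obtain ⟨s, hs⟩ := glue Q (isFibGrpd_overB S) (φ := g) (coversOn_top hcov) (fun k => (x k).down)
    fun k l Z a b hab W e e' => by
      have h2 := congrArg (res (Q.obj.obj Z) (le_top : W ≤ ⊤)) (congrArg ULift.down (hx k l Z a b hab))
      rw [psh_map, psh_map, res_tr, res_tr] at h2
      exact h2
  exact ⟨ULift.up s, fun k => ULift.ext _ _ (hs k)⟩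

theorem exists_glue {U : Over S} {R : Sieve U} (hR : R ∈ EtFppf.J S U)
    (x : ∀ ⦃Z : Over S⦄ (g : Z ⟶ U), R g → (psh Q).obj (op Z))
    (hx : ∀ ⦃Z Z' W : Over S⦄ (a : W ⟶ Z) (b : W ⟶ Z') (g : Z ⟶ U) (g' : Z' ⟶ U) (hg : R g) (hg' : R g'),
      a ≫ g = b ≫ g' → (psh Q).map a.op (x g hg) = (psh Q).map b.op (x g' hg')) :
    ∃ s : (psh Q).obj (op U), ∀ ⦃Z : Over S⦄ (f : Z ⟶ U) (hf : R f), (psh Q).map f.op s = x f hf := by
  obtain ⟨ι, V, g, hcov, hVR, -⟩ := AdeqLib.exists_flat_family hR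
  obtain ⟨s, hs⟩ := exists_local Q hcov (fun k => x (g k) (hVR k)) fun k l Z a b hab => hx a b _ _ _ _ hab
  refine ⟨s, fun Z f hf => ?_⟩
  refine psh_ext Q ((EtFppf.J S).pullback_stable f (mem_of_coversOn hcov)) fun W a ha => ?_
  obtain ⟨_, b, _, ⟨k⟩, hb⟩ := ha
  rw [← ConcreteCategory.comp_apply, ← Functor.map_comp, ← op_comp, ← hb, op_comp, Functor.map_comp,
    ConcreteCategory.comp_apply, hs k]
  exact hx b a _ _ (hVR k) hf hb

theorem isSheaf_of_glue {J : GrothendieckTopology (Over S)} (Q : (Over S)ᵒᵖ ⥤ AddCommGrpCat.{u + 1})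
    (hext : ∀ {U : Over S} {R : Sieve U}, R ∈ J U → ∀ {s s' : Q.obj (op U)},
      (∀ ⦃Z : Over S⦄ (g : Z ⟶ U), R g → Q.map g.op s = Q.map g.op s') → s = s')
    (hglue : ∀ {U : Over S} {R : Sieve U}, R ∈ J U → ∀ (x : ∀ ⦃Z : Over S⦄ (g : Z ⟶ U), R g → Q.obj (op Z)),
      (∀ ⦃Z Z' W : Over S⦄ (a : W ⟶ Z) (b : W ⟶ Z') (g : Z ⟶ U) (g' : Z' ⟶ U) (hg : R g) (hg' : R g'),
        a ≫ g = b ≫ g' → Q.map a.op (x g hg) = Q.map b.op (x g' hg')) →
      ∃ s : Q.obj (op U), ∀ ⦃Z : Over S⦄ (f : Z ⟶ U) (hf : R f), Q.map f.op s = x f hf) :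
    Presheaf.IsSheaf J Q := by
  rw [Presheaf.isSheaf_iff_isSheaf_forget _ _ (forget AddCommGrpCat.{u + 1}), isSheaf_iff_isSheaf_of_type]
  intro U R hR x hx
  obtain ⟨s, hs⟩ := hglue hR x fun Z Z' W a b g g' hg hg' e => hx a b hg hg' e
  exact ⟨s, fun Z f hf => hs f hf, fun s' hs' => hext hR fun Z f hf => (hs' f hf).trans (hs f hf).symm⟩

theorem isSheaf_psh : Presheaf.IsSheaf (EtFppf.J S) (psh Q) :=
  isSheaf_of_glue (psh Q) (fun hR _ _ h => psh_ext Q hR h) (fun hR x hx => exists_glue Q hR x hx)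

/-- The fppf sheaf of sections. -/
def bigQ : EtFppf.AbF S := ⟨psh Q, isSheaf_psh Q⟩

/-- The fppf sheaf `T ↦ Γ(T, t^* F)`. -/
abbrev big : EtFppf.AbF S := bigQ (modQ F)

end Groth.Agent.EtAssocLib
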