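import Groth.Agent.AdeqLib.Zar
import Groth.Agent.AdeqLib.H0
import Groth.Agent.SiteCoh.Cartan
import Groth.Prelude.Def_Coh
import Mathlib.Algebra.Category.Grp.Ulift

/-!
Cohomology of sheaves on the opens does not depend on the universe.
-/

universe u

open CategoryTheory CategoryTheory.Limits AlgebraicGeometry TopologicalSpace Opposite Abelian

set_option autoImplicit false
set_option backward.isDefEq.respectTransparency false
set_option backward.isDefEq.respectTransparency.types false
set_option linter.style.haveILetI false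

noncomputable section

namespace Groth.Agent.EtAssocLib

variable {S : Scheme.{u}}


/-- The universe lift of sheaves of abelian groups on the opens. -/
def uu (S : Scheme.{u}) : Sheaf (Opens.grothendieckTopology S) AddCommGrpCat.{u} ⥤ EtZar.Ab S :=
  sheafCompose (Opens.grothendieckTopology S) AddCommGrpCat.uliftFunctor.{u + 1}

theorem shortExact_uu {C : ShortComplex (Sheaf (Opens.grothendieckTopology S) AddCommGrpCat.{u})} (hC : C.ShortExact) :
    (ShortComplex.mk ((uu S).map C.f) ((uu S).map C.g)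
      (by rw [← Functor.map_comp, C.zero]; exact Sheaf.hom_ext (by ext U x; rfl))).ShortExact := by
  haveI := hC.mono_f
  haveI := hC.epi_g
  haveI : ∀ U, Mono ((C.f).hom.app U) := fun U =>
    inferInstanceAs (Mono (((sheafToPresheaf _ _ ⋙ (evaluation _ _).obj U)).map C.f))
  haveI : Mono ((uu S).map C.f) := by
    haveI : ∀ U, Mono (((uu S).map C.f).hom.app U) := fun U => by
      rw [AddCommGrpCat.mono_iff_injective]
      intro x y h
      exact ULift.ext _ _ ((AddCommGrpCat.mono_iff_injective _).mp inferInstance (congrArg ULift.down h))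
    haveI : Mono ((uu S).map C.f).hom := NatTrans.mono_of_mono_app _
    exact Sheaf.Hom.mono_of_presheaf_mono _ _ _
  haveI : Sheaf.IsLocallySurjective C.g := (Sheaf.isLocallySurjective_iff_epi' _ _).mpr inferInstance
  haveI : Sheaf.IsLocallySurjective ((uu S).map C.g) := ⟨fun {U} s => by
    refine GrothendieckTopology.superset_covering _ ?_ (Presheaf.imageSieve_mem _ C.g.hom s.down)
    rintro V f ⟨t, ht⟩
    exact ⟨ULift.up t, ULift.ext _ _ ht⟩⟩
  haveI : (uu S).Additive := ⟨fun {_ _ _ _} => Sheaf.hom_ext (by ext U x; rfl)⟩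
  haveI : PreservesFiniteLimits (uu S ⋙ sheafToPresheaf _ _) :=
    inferInstanceAs (PreservesFiniteLimits (sheafToPresheaf _ _ ⋙ (Functor.whiskeringRight _ _ _).obj AddCommGrpCat.uliftFunctor.{u + 1}))
  haveI : PreservesFiniteLimits (uu S) := preservesFiniteLimits_of_reflects_of_preserves (uu S) (sheafToPresheaf _ _)
  refine { exact := ?_, mono_f := inferInstance, epi_g := (Sheaf.isLocallySurjective_iff_epi' _ _).1 ‹_› }
  exact ((ShortComplex.exact_and_mono_f_iff_f_is_kernel (C.map (uu S))).mpr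
    ⟨KernelFork.mapIsLimit _ hC.fIsKernel (uu S)⟩).1

/-- Degree zero. -/
def uuH0 (G : Sheaf (Opens.grothendieckTopology S) AddCommGrpCat.{u}) : EtZar.H ((uu S).obj G) 0 ≃+ ULift.{u + 1} (Sheaf.H G 0) :=
  (Sheaf.H.equiv₀ ((uu S).obj G) (AdeqLib.topTerminal S)).trans
    (AddEquiv.ulift.trans ((Sheaf.H.equiv₀ G (AdeqLib.topTerminal S)).symm.trans AddEquiv.ulift.symm))

theorem uuH0_natural {G G' : Sheaf (Opens.grothendieckTopology S) AddCommGrpCat.{u}} (φ : G ⟶ G') (y : EtZar.H ((uu S).obj G) 0) :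
    Sheaf.H.map φ 0 (uuH0 G y).down = (uuH0 G' (Sheaf.H.map ((uu S).map φ) 0 y)).down :=
  (Sheaf.H.equiv₀_symm_naturality (AdeqLib.topTerminal S) φ _).trans
    (congrArg (fun z : ((uu S).obj G').obj.obj (op ⊤) => (Sheaf.H.equiv₀ G' (AdeqLib.topTerminal S)).symm z.down)
      (Sheaf.H.equiv₀_naturality (AdeqLib.topTerminal S) ((uu S).map φ) y))

theorem zflasque_uu (G : Sheaf (Opens.grothendieckTopology S) AddCommGrpCat.{u}) [Injective G] :
    AdeqLib.ZFlasque ((uu S).obj G) := fun U V h x => by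
  haveI := SiteCoh.injective_isFlasque (X := S.toTopCat) G
  obtain ⟨y, hy⟩ := (AddCommGrpCat.epi_iff_surjective _).mp (TopCat.Presheaf.IsFlasque.epi (F := G.obj) (homOfLE h).op) x.down
  exact ⟨ULift.up y, ULift.ext _ _ hy⟩

/-- Cohomology commutes with the universe lift. -/
theorem nonempty_uuH : ∀ (q : ℕ) (G : Sheaf (Opens.grothendieckTopology S) AddCommGrpCat.{u}), Nonempty (EtZar.H ((uu S).obj G) q ≃+ ULift.{u + 1} (Sheaf.H G q)) := by
  intro q
  induction q with
  | zero => exact fun G => ⟨uuH0 G⟩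
  | succ q ih =>
    intro G
    have hC := SiteCoh.embedSeq_shortExact G
    have hz := shortExact_uu hC
    let P' := (constantSheaf (Opens.grothendieckTopology S) AddCommGrpCat.{u + 1}).obj (AddCommGrpCat.of (ULift.{u + 1} ℤ))
    let P := (constantSheaf (Opens.grothendieckTopology S) AddCommGrpCat.{u}).obj (AddCommGrpCat.of (ULift.{u} ℤ))
    have hac : ∀ j, Subsingleton (EtZar.H ((uu S).obj (SiteCoh.embedSeq G).X₂) (j + 1)) := fun j =>
      AdeqLib.zflasque_acyclic (zflasque_uu _) j
    cases q with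
    | zero =>
      haveI : Subsingleton (Ext P' ((uu S).obj (SiteCoh.embedSeq G).X₂) (0 + 1)) := hac 0
      haveI : Subsingleton (Ext P (SiteCoh.embedSeq G).X₂ (0 + 1)) := SiteCoh.subsingleton_ext_injective _ _ _
      refine EpsLan.exists_addEquiv_of_surjective _
        ((AddEquiv.ulift.symm.toAddMonoidHom.comp (hC.extClass.postcomp P (rfl : 0 + 1 = 0 + 1))).comp
          AddEquiv.ulift.toAddMonoidHom)
        (EpsLan.surjective_extClass hz P' 0) ?_ (uuH0 _) fun a => ?_
      · intro x
        obtain ⟨y, hy⟩ := EpsLan.surjective_extClass hC P 0 x.down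
        exact ⟨ULift.up y, ULift.ext _ _ hy⟩
      refine (EpsLan.extClass_eq_zero_iff hz P' 0 a).trans (Iff.trans ?_ ((ULift.ext_iff).trans
        (EpsLan.extClass_eq_zero_iff hC P 0 (uuH0 _ a).down)).symm)
      constructor
      · rintro ⟨y, rfl⟩
        exact ⟨(uuH0 _ y).down, uuH0_natural _ y⟩
      · rintro ⟨y, hy⟩
        refine ⟨(uuH0 _).symm (ULift.up y), (uuH0 _).injective (ULift.ext _ _ ?_)⟩
        refine (uuH0_natural _ _).symm.trans ?_
        exact (congrArg (fun w : ULift.{u + 1} (Sheaf.H (SiteCoh.embedSeq G).X₂ 0) => Sheaf.H.map (SiteCoh.embedSeq G).g 0 w.down)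
          ((uuH0 (SiteCoh.embedSeq G).X₂).apply_symm_apply (ULift.up y))).trans hy
    | succ q =>
      obtain ⟨e⟩ := ih (SiteCoh.embedSeq G).X₃
      haveI : Subsingleton (Ext P' ((uu S).obj (SiteCoh.embedSeq G).X₂) (q + 1)) := hac q
      haveI : Subsingleton (Ext P' ((uu S).obj (SiteCoh.embedSeq G).X₂) (q + 1 + 1)) := hac (q + 1)
      haveI : Subsingleton (Ext P (SiteCoh.embedSeq G).X₂ (q + 1)) := SiteCoh.subsingleton_ext_injective _ _ _
      haveI : Subsingleton (Ext P (SiteCoh.embedSeq G).X₂ (q + 1 + 1)) := SiteCoh.subsingleton_ext_injective _ _ _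
      exact ⟨(SiteCoh.shiftEquiv hz P' (q + 1)).symm.trans (e.trans (AddEquiv.ulift.trans
        ((SiteCoh.shiftEquiv hC P (q + 1)).trans AddEquiv.ulift.symm)))⟩

end Groth.Agent.EtAssocLib
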