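import Groth.Agent.EtAssocLib.Big
import Groth.Agent.EtAssocLib.UliftH
import Groth.Agent.BigSiteLib.ZarCompare
import Groth.Prelude.Def_EtAssoc2
import Groth.Prelude.Def_BigSite

/-!
Sections of the fppf sheaf of a quasi-coherent module over étale schemes and over opens.
-/

universe u

open CategoryTheory CategoryTheory.Limits AlgebraicGeometry TopologicalSpace Opposite

set_option autoImplicit false
set_option backward.isDefEq.respectTransparency false
set_option backward.isDefEq.respectTransparency.types false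
set_option linter.style.haveILetI false

noncomputable section

namespace Groth.Agent.EtAssocLib

open Groth.Agent.QC Groth.Agent.QDescent

local notation "Kf" => Scheme.fppfPrecoverage

variable {S : Scheme.{u}} (F : S.Modules)

theorem app_comp_eq {T' T : Scheme.{u}} (g : T' ⟶ T) {M : T.Modules} {N : T'.Modules}
    (β : (Scheme.Modules.pullback g).obj M ⟶ N) (x : Γ(M, ⊤)) (e : (⊤ : T'.Opens) ≤ g ⁻¹ᵁ ⊤) :
    res N e (((Scheme.Modules.pullbackPushforwardAdjunction g).homEquiv _ _ β).app ⊤ x) =
      β.app ⊤ (((Scheme.Modules.pullback g).obj M).presheaf.map (eqToHom (Opens.map_top g.base).symm).op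
        (((Scheme.Modules.pullbackPushforwardAdjunction g).unit.app M).app ⊤ x)) := by
  rw [Adjunction.homEquiv_unit]
  refine (app_res β e (((Scheme.Modules.pullbackPushforwardAdjunction g).unit.app M).app ⊤ x)).trans ?_
  exact congrArg (fun k => β.app ⊤ (((Scheme.Modules.pullback g).obj M).presheaf.map k
      (((Scheme.Modules.pullbackPushforwardAdjunction g).unit.app M).app ⊤ x))) (Subsingleton.elim _ _)

/-- The comparison map on global sections. -/
theorem res_cmp {T' T : Scheme.{u}} {t' : T' ⟶ S} {t : T ⟶ S} (g : T' ⟶ T) (w : g ≫ t = t')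
    (x : Γ((Scheme.Modules.pullback t).obj F, ⊤)) (e : (⊤ : T'.Opens) ≤ g ⁻¹ᵁ ⊤) :
    res ((Scheme.Modules.pullback t').obj F) e ((cmp F g w).app ⊤ x) =
      (((Scheme.Modules.pullbackComp g t).app F).hom ≫
          eqToHom (congrArg (fun h => (Scheme.Modules.pullback h).obj F) w)).app ⊤
        (((Scheme.Modules.pullback g).obj ((Scheme.Modules.pullback t).obj F)).presheaf.map
          (eqToHom (Opens.map_top g.base).symm).op
          (((Scheme.Modules.pullbackPushforwardAdjunction g).unit.app ((Scheme.Modules.pullback t).obj F)).app ⊤ x)) := by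
  subst w
  refine (app_comp_eq g _ x e).trans ?_
  simp [Scheme.Modules.pullbackCongr]

/-- The transport on global sections is the restriction map of the étale presheaf. -/
theorem tr_eq_resMap {U U' : S.Etale} (g : U' ⟶ U) (x : EtAssoc.obj F U) :
    tr (modM F) (show (EtFppf.a S).obj U' ⟶ (EtFppf.a S).obj U from (EtFppf.a S).map g) ⊤ ⊤ le_top x =
      EtAssoc.resMap F g x :=
  res_cmp F g.left (Over.w g.hom) x le_top

theorem image_preimage_self {T : Scheme.{u}} (U : T.Opens) : U.ι ''ᵁ (U.ι ⁻¹ᵁ U) = U := by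
  ext1
  simp

theorem bijective_res_of_eq {T : Scheme.{u}} (M : T.Modules) {U V : T.Opens} (e : V ≤ U) (h : U = V) :
    Function.Bijective (res M e) := by
  subst h
  refine ⟨fun a b hab => ?_, fun a => ⟨a, res_self _ _ _⟩⟩
  rwa [res_self, res_self] at hab

theorem map3_eq_map2 {T : Scheme.{u}} (M : T.Modules) {A B C D D' : T.Opens} (a : B ⟶ A) (b : C ⟶ B) (c : D ⟶ C)
    (a' : D' ⟶ A) (b' : D ⟶ D') (x : Γ(M, A)) :
    M.presheaf.map c.op (M.presheaf.map b.op (M.presheaf.map a.op x)) =
      M.presheaf.map b'.op (M.presheaf.map a'.op x) := by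
  simp only [← ConcreteCategory.comp_apply, ← Functor.map_comp]
  exact congrArg (fun k => M.presheaf.map k x) (Subsingleton.elim _ _)

/-- Sections over an open as sections of the inverse image. -/
def zarMap (U : S.Opens) : Γ(F, U) →+ Γ((Scheme.Modules.pullback U.ι).obj F, ⊤) :=
  (res ((Scheme.Modules.pullback U.ι).obj F) (le_of_eq (U.ι_preimage_self).symm)).comp
    (OmegaSh.pullSect U.ι F U).hom

theorem bijective_zarMap (U : S.Opens) : Function.Bijective (zarMap F U) := by
  refine (bijective_res_of_eq _ _ U.ι_preimage_self).comp ?_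
  have h : (OmegaSh.pullSect U.ι F U : Γ(F, U) → _) =
      ((Scheme.Modules.restrictFunctorIsoPullback U.ι).hom.app F).app (U.ι ⁻¹ᵁ U) ∘
        res F (U.ι.image_preimage_le U) := funext fun m => (restrictIso_hom_pullSect U.ι F U m).symm
  change Function.Bijective (OmegaSh.pullSect U.ι F U : Γ(F, U) → _)
  rw [h]
  exact (ConcreteCategory.bijective_of_isIso _).comp (bijective_res_of_eq F _ (image_preimage_self U).symm)

/-- Naturality of the sections over opens. -/
theorem zarMap_natural {U V : S.Opens} (h : V ≤ U) (m : Γ(F, U))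
    (e : (⊤ : (V : Scheme.{u}).Opens) ≤ S.homOfLE h ⁻¹ᵁ ⊤) :
    res ((Scheme.Modules.pullback V.ι).obj F) e ((cmp F (S.homOfLE h) (S.homOfLE_ι h)).app ⊤ (zarMap F U m)) =
      zarMap F V (res F h m) := by
  change res ((Scheme.Modules.pullback V.ι).obj F) e ((cmp F (S.homOfLE h) (S.homOfLE_ι h)).app ⊤
      (res ((Scheme.Modules.pullback U.ι).obj F) (le_of_eq (U.ι_preimage_self).symm) (OmegaSh.pullSect U.ι F U m))) =
    res _ _ (OmegaSh.pullSect V.ι F V (res F h m))
  have hp : OmegaSh.pullSect V.ι F V (res F h m) =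
      res ((Scheme.Modules.pullback V.ι).obj F) (V.ι.preimage_mono h) (OmegaSh.pullSect V.ι F U m) :=
    (app_res ((Scheme.Modules.pullbackPushforwardAdjunction V.ι).unit.app F) h m).symm
  refine (congrArg (res ((Scheme.Modules.pullback V.ι).obj F) e)
    ((app_res (cmp F (S.homOfLE h) (S.homOfLE_ι h)) (le_of_eq (U.ι_preimage_self).symm) _).symm.trans
      (congrArg (res ((Scheme.Modules.pushforward (S.homOfLE h)).obj ((Scheme.Modules.pullback V.ι).obj F)) _)
        (cmp_pullSect F (S.homOfLE h) (S.homOfLE_ι h) U m)))).trans ?_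
  rw [hp]
  exact map3_eq_map2 ((Scheme.Modules.pullback V.ι).obj F)
    (eqToHom (le_preimage (S.homOfLE h) (S.homOfLE_ι h) U))
    ((Opens.map (S.homOfLE h).base).map (homOfLE (le_of_eq (U.ι_preimage_self).symm)))
    (homOfLE e) (homOfLE (V.ι.preimage_mono h)) (homOfLE (le_of_eq (V.ι_preimage_self).symm)) _

variable [hF : F.IsQuasicoherent]

/-- Open coverings are fppf coverings. -/
instance zarContFppf (S : Scheme.{u}) : BigSite.ZarCont Kf S := by
  refine Functor.isContinuous_of_coverPreserving (compatiblePreservingOfFlat _ _) ⟨fun {U R} hR => ?_⟩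
  choose W iW hW hxW using fun x : ULift.{u + 1} U => hR x.down.1 x.down.2
  refine GrothendieckTopology.superset_covering _ ?_
    (mem_of_coversOn (V := fun x => (BigSite.zarIncl S).obj (W x)) (g := fun x => (BigSite.zarIncl S).map (iW x)) ?_)
  · rw [Sieve.generate_le_iff]
    rintro Z f ⟨x⟩
    exact Sieve.image_mem_functorPushforward _ _ (hW x)
  · refine AdeqLib.fppf_ofArrows_iff.mpr ⟨fun y => ⟨ULift.up y, ?_⟩, fun x => ?_⟩
    · refine ⟨⟨y.1, hxW (ULift.up y)⟩, Subtype.ext ?_⟩
      exact Scheme.homOfLE_apply (iW (ULift.up y)).le _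
    · haveI : IsOpenImmersion ((BigSite.zarIncl S).map (iW x)).left :=
        inferInstanceAs (IsOpenImmersion (S.homOfLE (iW x).le))
      exact ⟨inferInstance, inferInstance⟩

/-- The restriction of the fppf sheaf to the opens. -/
def resZarBigIso : (uu S).obj (Coh.toAb F) ≅ (BigSite.resZar Kf S).obj (big F) :=
  (sheafToPresheaf _ _).preimageIso (NatIso.ofComponents
    (fun U => (AddEquiv.ulift.trans ((AddEquiv.ofBijective (zarMap F U.unop) (bijective_zarMap F U.unop)).trans
      AddEquiv.ulift.symm)).toAddCommGrpIso)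
    fun {U V} i => by
      ext m
      exact ULift.ext _ _ (zarMap_natural F i.unop.le m.down le_top).symm)

/-- The sheaf associated with the module. -/
theorem isAssoc_aPush_big : EtAssoc.IsAssoc F ((EtFppf.aPush S).obj (big F)) :=
  ⟨fun _ => AddEquiv.refl _, fun _ _ g s => tr_eq_resMap F g s.down⟩

/-- Associated sheaves are unique. -/
theorem nonempty_iso_of_isAssoc {G : EtCoh.Ab S} (hG : EtAssoc.IsAssoc F G) :
    Nonempty (G ≅ (EtFppf.aPush S).obj (big F)) := by
  obtain ⟨e, he⟩ := hG
  exact ⟨(sheafToPresheaf _ _).preimageIso (NatIso.ofComponents (fun U => (e U.unop).toAddCommGrpIso)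
    fun {U V} i => by
      ext s
      refine ULift.ext _ _ ?_
      exact (he U.unop V.unop i.unop s).trans (tr_eq_resMap F i.unop (e U.unop s).down).symm)⟩

end Groth.Agent.EtAssocLib
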